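import Cfsg.Agent.H55.F4.SpecAbs
import Cfsg.Agent.H952.F4.Defs2
import Cfsg.Agent.H952.F4.Jord

/-!
# S5926, F-M2: the algebra generated by the three axes (helper55)
-/

set_option autoImplicit false
set_option linter.unusedVariables false

namespace Cfsg.Agent.H952.F4

open Cfsg Cfsg.Lie Module
open Cfsg.Agent.ChevalleyStructure.E6Min.Tables Cfsg.Agent.ChevalleyStructure.E6Min.Basic
open Cfsg.Agent.H55.F4

universe u

namespace Spec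

/-- the 27-dimensional algebra -/
def cub (F : Type u) [Field F] : Cub F (I27 → F) where
  T := tf
  N := cubicT
  sh := sh
  cr := cr
  tr := tr1
  u := u0 F
  T_comm := Jord.tf_comm
  T_add := Jord.tf_add_left
  T_smul := Jord.tf_smul_left
  T_u := Jord.tf_u0
  tr_u := Jord.tr1_u0
  sh_add := Jord.sh_add
  sh_smul := Jord.sh_smul
  cr_comm := Jord.cr_comm
  cr_add := Jord.cr_add_left
  cr_smul := Jord.cr_smul_left
  cr_self := Jord.cr_self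
  cr_u := Jord.cr_u0
  N_smul := Jord.N_smul
  N_add := Jord.N_add
  T_sh_self := Jord.tf_sh_self
  tr_cr := Jord.tr1_cr
  tr_sh := Jord.tr1_sh
  T_cr := Jord.tf_cr
  sh_sh := Jord.sh_sh
  cr_sh_cr := Jord.cr_sh_cr
  sh_cr := Jord.sh_cr

set_option maxRecDepth 100000 in
theorem exists_word : ∀ g : ↥(alternatingGroup (Fin 5)), ∃ i : Fin 5, ∃ j : Fin 3, ∃ k l : Fin 2,
    g = z5 ^ (i : ℕ) * c3 ^ (j : ℕ) * v0 ^ (k : ℕ) * v1 ^ (l : ℕ) := by decide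

/-- vectors fixed by the generators are fixed -/
theorem fixed_of_gens {F V : Type*} [Field F] [AddCommGroup V] [Module F V]
    (ρ : Representation F ↥(alternatingGroup (Fin 5)) V) {x : V} (h0 : ρ v0 x = x) (h1 : ρ v1 x = x) (hc : ρ c3 x = x)
    (hz : ρ z5 x = x) (g : ↥(alternatingGroup (Fin 5))) : ρ g x = x := by
  have hpow : ∀ (a : ↥(alternatingGroup (Fin 5))), ρ a x = x → ∀ n : ℕ, ρ (a ^ n) x = x := by
    intro a ha n
    induction n with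
    | zero => simp
    | succ n ih => rw [pow_succ, map_mul, Module.End.mul_apply, ha, ih]
  obtain ⟨i, j, k, l, rfl⟩ := exists_word g
  rw [map_mul, map_mul, map_mul, Module.End.mul_apply, Module.End.mul_apply, Module.End.mul_apply, hpow _ h1, hpow _ h0,
    hpow _ hc, hpow _ hz]

/-- M2: the algebra. `X 0, X 1, X 2` as in M1 in the 27-dimensional module, `q = T(X 0, X 0) / 2 ≠ 0`,
`e i = - (X i)^#`, `Y 0 = X 1 × X 2` etc.: `e i` are `q` times orthogonal idempotents. -/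
theorem algebra {F : Type u} [Field F] (h2 : (2 : F) ≠ 0) (h5 : (5 : F) ≠ 0)
    (ρ : Representation F ↥(alternatingGroup (Fin 5)) (I27 → F))
    (hu : ∀ g, ρ g (u0 F) = u0 F) (htf : ∀ g x y, tf (ρ g x) (ρ g y) = tf x y) (hsh : ∀ g x, ρ g (sh x) = sh (ρ g x))
    (hN : ∀ g x, cubicT (ρ g x) = cubicT x)
    (hfix : ∀ x : I27 → F, tr1 x = 0 → (∀ g, ρ g x = x) → ∃ c : F, x = c • u0 F)
    {t : F} {X : Fin 3 → I27 → F} (ht : t * t = t + 1) (hX : ∀ i, X i ≠ 0)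
    (h0 : ρ v0 (X 0) = X 0 ∧ ρ v0 (X 1) = -X 1 ∧ ρ v0 (X 2) = -X 2)
    (h1 : ρ v1 (X 0) = -X 0 ∧ ρ v1 (X 1) = X 1 ∧ ρ v1 (X 2) = -X 2)
    (hc : ρ c3 (X 0) = X 1 ∧ ρ c3 (X 1) = X 2 ∧ ρ c3 (X 2) = X 0)
    (hz0 : (2 : F) • ρ z5 (X 0) = (t - 1) • X 0 - t • X 1 + X 2)
    (hz1 : (2 : F) • ρ z5 (X 1) = t • X 0 + X 1 + (t - 1) • X 2)
    (hz2 : (2 : F) • ρ z5 (X 2) = -X 0 + (t - 1) • X 1 + t • X 2)
    (hq : tf (X 0) (X 0) ≠ 0)
    (h3 : (3 : F) = 0 → cr (sh (X 1 + t • X 2)) (X 0) = 0) :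
    ∃ (q : F) (e Y : Fin 3 → I27 → F), q ≠ 0 ∧ (∀ i, e i ≠ 0) ∧ e 0 + e 1 + e 2 = q • u0 F ∧
      (∀ i, sh (e i) = 0) ∧ (∀ i, tr1 (e i) = q) ∧
      cr (e 0) (e 1) = q • e 2 ∧ cr (e 1) (e 2) = q • e 0 ∧ cr (e 2) (e 0) = q • e 1 ∧
      (∀ i, sh (Y i) = -q • e i) ∧ (∀ i, cr (e i) (Y i) = -q • Y i) ∧ (∀ i j, i ≠ j → cr (e i) (Y j) = 0) ∧
      (∀ i, e i = -sh (X i)) ∧ Y 0 = cr (X 1) (X 2) ∧ Y 1 = cr (X 2) (X 0) ∧ Y 2 = cr (X 0) (X 1) :=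
  axes_algebra (cub F) h2 h5 (ρ v0) (ρ v1) (ρ c3) (ρ z5) (hu v0) (hu v1) (htf v0) (htf v1) (htf c3) (hsh v0) (hsh v1)
    (hsh c3) (hsh z5) (hN v0) (hN v1) (hN z5)
    (fun x hx a b c d => hfix x hx (fixed_of_gens ρ a b c d)) (hu c3) (hu z5) ht h0 h1 hc hz0 hz1 hz2 hq h3

end Spec

end Cfsg.Agent.H952.F4
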