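import Mathlib.RepresentationTheory.Basic
import Mathlib.Tactic.LinearCombination
import Mathlib.Tactic.Module
import Mathlib.Tactic.FieldSimp

/-!
# S5926, F-M2: the algebra generated by three axes, abstract version (helper55)

`Cub F V` : a cubic norm structure (norm `N`, adjoint `sh`, its polarization `cr`, trace form `T`, trace `tr`, unit `u`).
`Cub.axes_algebra` : three vectors `X i` permuted up to signs by `A₄` and spanning an icosahedral module generate `q` times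
a system of orthogonal idempotents.
-/

set_option autoImplicit false
set_option linter.unusedVariables false

namespace Cfsg.Agent.H55.F4

universe u v

/-- a cubic norm structure -/
structure Cub (F : Type u) (V : Type v) [Field F] [AddCommGroup V] [Module F V] where
  T : V → V → F
  N : V → F
  sh : V → V
  cr : V → V → V
  tr : V → F
  u : V
  T_comm : ∀ x y, T x y = T y x
  T_add : ∀ x x' y, T (x + x') y = T x y + T x' y
  T_smul : ∀ (c : F) x y, T (c • x) y = c * T x y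
  T_u : ∀ x, T u x = tr x
  tr_u : tr u = 3
  sh_add : ∀ x y, sh (x + y) = sh x + sh y + cr x y
  sh_smul : ∀ (c : F) x, sh (c • x) = c ^ 2 • sh x
  cr_comm : ∀ x y, cr x y = cr y x
  cr_add : ∀ x x' y, cr (x + x') y = cr x y + cr x' y
  cr_smul : ∀ (c : F) x y, cr (c • x) y = c • cr x y
  cr_self : ∀ x, cr x x = (2 : F) • sh x
  cr_u : ∀ x, cr u x = tr x • u - x
  N_smul : ∀ (c : F) x, N (c • x) = c ^ 3 * N x
  N_add : ∀ x y, N (x + y) = N x + T (sh x) y + T x (sh y) + N y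
  T_sh_self : ∀ x, T (sh x) x = 3 * N x
  tr_cr : ∀ x y, tr (cr x y) = tr x * tr y - T x y
  tr_sh : ∀ x, 2 * tr (sh x) = tr x ^ 2 - T x x
  T_cr : ∀ x y z, T (cr x y) z = T x (cr y z)
  sh_sh : ∀ x, sh (sh x) = N x • x
  cr_sh_cr : ∀ x y, cr (sh x) (cr x y) = N x • y + T (sh x) y • x
  sh_cr : ∀ x y, sh (cr x y) + cr (sh x) (sh y) = T (sh x) y • y + T x (sh y) • x

namespace Cub

variable {F : Type u} {V : Type v} [Field F] [AddCommGroup V] [Module F V] (C : Cub F V)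

theorem T_add' (x y y' : V) : C.T x (y + y') = C.T x y + C.T x y' := by
  rw [C.T_comm, C.T_add, C.T_comm y, C.T_comm y']

theorem T_smul' (c : F) (x y : V) : C.T x (c • y) = c * C.T x y := by
  rw [C.T_comm, C.T_smul, C.T_comm y]

theorem T_neg (x y : V) : C.T (-x) y = -C.T x y := by
  rw [← neg_one_smul F x, C.T_smul, neg_one_mul]

theorem T_neg' (x y : V) : C.T x (-y) = -C.T x y := by
  rw [C.T_comm, C.T_neg, C.T_comm y]

theorem cr_add' (x y y' : V) : C.cr x (y + y') = C.cr x y + C.cr x y' := by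
  rw [C.cr_comm, C.cr_add, C.cr_comm y, C.cr_comm y']

theorem cr_smul' (c : F) (x y : V) : C.cr x (c • y) = c • C.cr x y := by
  rw [C.cr_comm, C.cr_smul, C.cr_comm y]

theorem cr_neg (x y : V) : C.cr (-x) y = -C.cr x y := by
  rw [← neg_one_smul F x, C.cr_smul, neg_one_smul]

theorem cr_neg' (x y : V) : C.cr x (-y) = -C.cr x y := by
  rw [C.cr_comm, C.cr_neg, C.cr_comm y]

theorem sh_neg (x : V) : C.sh (-x) = C.sh x := by
  rw [← neg_one_smul F x, C.sh_smul, neg_one_sq, one_smul]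

theorem N_neg (x : V) : C.N (-x) = -C.N x := by
  rw [← neg_one_smul F x, C.N_smul]
  ring

theorem tr_add (x y : V) : C.tr (x + y) = C.tr x + C.tr y := by
  rw [← C.T_u, ← C.T_u, ← C.T_u, C.T_add']

theorem tr_neg (x : V) : C.tr (-x) = -C.tr x := by
  rw [← C.T_u, ← C.T_u, C.T_neg']

theorem tr_smul (c : F) (x : V) : C.tr (c • x) = c * C.tr x := by
  rw [← C.T_u, ← C.T_u, C.T_smul']

theorem sh_three (a b c : F) (x y z : V) : C.sh (a • x + b • y + c • z) =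
    a ^ 2 • C.sh x + b ^ 2 • C.sh y + c ^ 2 • C.sh z + (a * b) • C.cr x y + (a * c) • C.cr x z +
      (b * c) • C.cr y z := by
  rw [C.sh_add, C.sh_add, C.cr_add]
  simp only [C.sh_smul, C.cr_smul, C.cr_smul', smul_smul]
  abel

theorem N_three (a b c : F) (x y z : V) (hx : C.N x = 0) (hy : C.N y = 0) (hz : C.N z = 0)
    (h1 : C.T (C.sh x) y = 0) (h2 : C.T (C.sh y) x = 0) (h3 : C.T (C.sh x) z = 0) (h4 : C.T (C.sh z) x = 0)
    (h5 : C.T (C.sh y) z = 0) (h6 : C.T (C.sh z) y = 0) :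
    C.N (a • x + b • y + c • z) = a * b * c * C.T (C.cr x y) z := by
  rw [C.T_comm] at h2 h4 h6
  rw [C.N_add, C.N_add, C.sh_add]
  simp only [C.sh_smul, C.N_smul, C.cr_smul, C.cr_smul', C.T_add, C.T_smul, C.T_smul', hx, hy, hz, h1, h2, h3,
    h4, h5, h6]
  ring

end Cub

/-- the algebra generated by three axes -/
theorem axes_algebra {F : Type u} {V : Type v} [Field F] [AddCommGroup V] [Module F V] (C : Cub F V)
    (h2 : (2 : F) ≠ 0) (h5 : (5 : F) ≠ 0) (v0 v1 c3 z5 : V →ₗ[F] V)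
    (hu0 : v0 C.u = C.u) (hu1 : v1 C.u = C.u)
    (hT0 : ∀ x y, C.T (v0 x) (v0 y) = C.T x y) (hT1 : ∀ x y, C.T (v1 x) (v1 y) = C.T x y)
    (hTc : ∀ x y, C.T (c3 x) (c3 y) = C.T x y)
    (hs0 : ∀ x, v0 (C.sh x) = C.sh (v0 x)) (hs1 : ∀ x, v1 (C.sh x) = C.sh (v1 x))
    (hsc : ∀ x, c3 (C.sh x) = C.sh (c3 x)) (hsz : ∀ x, z5 (C.sh x) = C.sh (z5 x))
    (hN0 : ∀ x, C.N (v0 x) = C.N x) (hN1 : ∀ x, C.N (v1 x) = C.N x) (hNz : ∀ x, C.N (z5 x) = C.N x)
    (hfix : ∀ x : V, C.tr x = 0 → v0 x = x → v1 x = x → c3 x = x → z5 x = x → ∃ c : F, x = c • C.u)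
    (huc : c3 C.u = C.u) (huz : z5 C.u = C.u)
    {t : F} {X : Fin 3 → V} (ht : t * t = t + 1)
    (h0 : v0 (X 0) = X 0 ∧ v0 (X 1) = -X 1 ∧ v0 (X 2) = -X 2)
    (h1 : v1 (X 0) = -X 0 ∧ v1 (X 1) = X 1 ∧ v1 (X 2) = -X 2)
    (hc : c3 (X 0) = X 1 ∧ c3 (X 1) = X 2 ∧ c3 (X 2) = X 0)
    (hz0 : (2 : F) • z5 (X 0) = (t - 1) • X 0 - t • X 1 + X 2)
    (hz1 : (2 : F) • z5 (X 1) = t • X 0 + X 1 + (t - 1) • X 2)
    (hz2 : (2 : F) • z5 (X 2) = -X 0 + (t - 1) • X 1 + t • X 2)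
    (hq : C.T (X 0) (X 0) ≠ 0)
    (h3 : (3 : F) = 0 → C.cr (C.sh (X 1 + t • X 2)) (X 0) = 0) :
    ∃ (q : F) (e Y : Fin 3 → V), q ≠ 0 ∧ (∀ i, e i ≠ 0) ∧ e 0 + e 1 + e 2 = q • C.u ∧
      (∀ i, C.sh (e i) = 0) ∧ (∀ i, C.tr (e i) = q) ∧
      C.cr (e 0) (e 1) = q • e 2 ∧ C.cr (e 1) (e 2) = q • e 0 ∧ C.cr (e 2) (e 0) = q • e 1 ∧
      (∀ i, C.sh (Y i) = -q • e i) ∧ (∀ i, C.cr (e i) (Y i) = -q • Y i) ∧ (∀ i j, i ≠ j → C.cr (e i) (Y j) = 0) ∧
      (∀ i, e i = -C.sh (X i)) ∧ Y 0 = C.cr (X 1) (X 2) ∧ Y 1 = C.cr (X 2) (X 0) ∧ Y 2 = C.cr (X 0) (X 1) := by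
  obtain ⟨h00, h01, h02⟩ := h0
  obtain ⟨h10, h11, h12⟩ := h1
  obtain ⟨hc0, hc1, hc2⟩ := hc
  have self0 : ∀ a : F, a = -a → a = 0 := by
    intro a ha
    have h : 2 * a = 0 := by linear_combination ha
    exact (mul_eq_zero.1 h).resolve_left h2
  -- the norms
  have N0 : C.N (X 0) = 0 := self0 _ (by rw [← C.N_neg, ← h10, hN1])
  have N1 : C.N (X 1) = 0 := self0 _ (by rw [← C.N_neg, ← h01, hN0])
  have N2 : C.N (X 2) = 0 := self0 _ (by rw [← C.N_neg, ← h02, hN0])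
  -- the adjoints are fixed by `v0`, `v1`
  have s00 : v0 (C.sh (X 0)) = C.sh (X 0) := by rw [hs0, h00]
  have s01 : v0 (C.sh (X 1)) = C.sh (X 1) := by rw [hs0, h01, C.sh_neg]
  have s02 : v0 (C.sh (X 2)) = C.sh (X 2) := by rw [hs0, h02, C.sh_neg]
  have s10 : v1 (C.sh (X 0)) = C.sh (X 0) := by rw [hs1, h10, C.sh_neg]
  have s11 : v1 (C.sh (X 1)) = C.sh (X 1) := by rw [hs1, h11]
  have s12 : v1 (C.sh (X 2)) = C.sh (X 2) := by rw [hs1, h12, C.sh_neg]
  have T0 : ∀ y, v1 y = y → C.T y (X 0) = 0 := fun y hy => self0 _ (by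
    rw [← C.T_neg', ← h10]
    nth_rw 1 [← hT1, hy])
  have T1 : ∀ y, v0 y = y → C.T y (X 1) = 0 := fun y hy => self0 _ (by
    rw [← C.T_neg', ← h01]
    nth_rw 1 [← hT0, hy])
  have T2 : ∀ y, v0 y = y → C.T y (X 2) = 0 := fun y hy => self0 _ (by
    rw [← C.T_neg', ← h02]
    nth_rw 1 [← hT0, hy])
  -- orthogonality
  have T01 : C.T (X 0) (X 1) = 0 := T1 _ h00
  have T02 : C.T (X 0) (X 2) = 0 := T2 _ h00
  have T12 : C.T (X 1) (X 2) = 0 := by
    apply self0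
    rw [← C.T_neg']
    nth_rw 1 [← hT1, h11, h12]
  have t0 : C.tr (X 0) = 0 := by rw [← C.T_u]; exact T0 _ hu1
  have t1 : C.tr (X 1) = 0 := by rw [← C.T_u]; exact T1 _ hu0
  have t2 : C.tr (X 2) = 0 := by rw [← C.T_u]; exact T2 _ hu0
  -- the trilinear form
  have TX : C.T (C.cr (X 0) (X 1)) (X 2) = 0 := by
    have h : C.N ((2 : F) • z5 (X 0)) = 0 := by rw [C.N_smul, hNz, N0, mul_zero]
    have h' : (t - 1) • X 0 - t • X 1 + X 2 = (t - 1) • X 0 + (-t) • X 1 + (1 : F) • X 2 := by module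
    rw [hz0, h', C.N_three _ _ _ _ _ _ N0 N1 N2 (T1 _ s00) (T0 _ s11) (T2 _ s00) (T0 _ s12) (T2 _ s01)
      (T1 _ s02)] at h
    have h4 : (t - 1) * -t * 1 = -1 := by linear_combination -ht
    rw [h4, neg_one_mul, neg_eq_zero] at h
    exact h
  set q : F := C.T (X 0) (X 0) / 2 with hqdef
  have hq0 : q ≠ 0 := div_ne_zero hq h2
  have T00 : C.T (X 0) (X 0) = 2 * q := by rw [hqdef]; field_simp
  have T11 : C.T (X 1) (X 1) = 2 * q := by rw [← T00, ← hc0, hTc]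
  have T22 : C.T (X 2) (X 2) = 2 * q := by rw [← T11, ← hc1, hTc]
  have cancel2 : ∀ a b : F, 2 * a = 2 * b → a = b := fun a b h => mul_left_cancel₀ h2 h
  have r0 : C.tr (C.sh (X 0)) = -q := cancel2 _ _ (by rw [C.tr_sh, t0, T00]; ring)
  have r1 : C.tr (C.sh (X 1)) = -q := cancel2 _ _ (by rw [C.tr_sh, t1, T11]; ring)
  have r2 : C.tr (C.sh (X 2)) = -q := cancel2 _ _ (by rw [C.tr_sh, t2, T22]; ring)
  -- the idempotents
  set e : Fin 3 → V := fun i => -C.sh (X i) with he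
  have he' : ∀ i, e i = -C.sh (X i) := fun _ => rfl
  have tre : ∀ i, C.tr (e i) = q := by
    intro i
    fin_cases i
    · show C.tr (-C.sh (X 0)) = q
      rw [C.tr_neg, r0, neg_neg]
    · show C.tr (-C.sh (X 1)) = q
      rw [C.tr_neg, r1, neg_neg]
    · show C.tr (-C.sh (X 2)) = q
      rw [C.tr_neg, r2, neg_neg]
  have NX : ∀ i, C.N (X i) = 0 := by
    intro i
    fin_cases i
    · exact N0
    · exact N1
    · exact N2
  have she : ∀ i, C.sh (e i) = 0 := by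
    intro i
    rw [he', C.sh_neg, C.sh_sh, NX, zero_smul]
  -- the sum is fixed
  have hsum : ∃ κ : F, e 0 + e 1 + e 2 = κ • C.u := by
    have hz : z5 (C.sh (X 0) + C.sh (X 1) + C.sh (X 2)) = C.sh (X 0) + C.sh (X 1) + C.sh (X 2) := by
      have h4 : (4 : F) ≠ 0 := by
        have : (4 : F) = 2 * 2 := by norm_num
        rw [this]
        exact mul_ne_zero h2 h2
      have k0 : (4 : F) • z5 (C.sh (X 0)) = (t - 1) ^ 2 • C.sh (X 0) + (-t) ^ 2 • C.sh (X 1) + (1 : F) ^ 2 • C.sh (X 2) +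
          ((t - 1) * -t) • C.cr (X 0) (X 1) + ((t - 1) * 1) • C.cr (X 0) (X 2) + (-t * 1) • C.cr (X 1) (X 2) := by
        rw [← C.sh_three, hsz]
        have : (4 : F) = 2 ^ 2 := by norm_num
        rw [this, ← C.sh_smul, hz0]
        congr 1
        module
      have k1 : (4 : F) • z5 (C.sh (X 1)) = t ^ 2 • C.sh (X 0) + (1 : F) ^ 2 • C.sh (X 1) + (t - 1) ^ 2 • C.sh (X 2) +
          (t * 1) • C.cr (X 0) (X 1) + (t * (t - 1)) • C.cr (X 0) (X 2) + (1 * (t - 1)) • C.cr (X 1) (X 2) := by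
        rw [← C.sh_three, hsz]
        have : (4 : F) = 2 ^ 2 := by norm_num
        rw [this, ← C.sh_smul, hz1]
        congr 1
        module
      have k2 : (4 : F) • z5 (C.sh (X 2)) = (-1 : F) ^ 2 • C.sh (X 0) + (t - 1) ^ 2 • C.sh (X 1) + t ^ 2 • C.sh (X 2) +
          (-1 * (t - 1)) • C.cr (X 0) (X 1) + (-1 * t) • C.cr (X 0) (X 2) + ((t - 1) * t) • C.cr (X 1) (X 2) := by
        rw [← C.sh_three, hsz]
        have : (4 : F) = 2 ^ 2 := by norm_num
        rw [this, ← C.sh_smul, hz2]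
        congr 1
        module
      have k3 : (4 : F) • z5 (C.sh (X 0) + C.sh (X 1) + C.sh (X 2)) =
          (4 : F) • (C.sh (X 0) + C.sh (X 1) + C.sh (X 2)) := by
        rw [map_add, map_add, smul_add, smul_add, k0, k1, k2]
        have a1 : (t - 1) ^ 2 + t ^ 2 + 1 = 4 := by linear_combination 2 * ht
        have a2 : t * t - t = 1 := by linear_combination ht
        have e1 : (t - 1) ^ 2 • C.sh (X 0) + (-t) ^ 2 • C.sh (X 1) + (1 : F) ^ 2 • C.sh (X 2) +
          ((t - 1) * -t) • C.cr (X 0) (X 1) + ((t - 1) * 1) • C.cr (X 0) (X 2) + (-t * 1) • C.cr (X 1) (X 2) +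
          (t ^ 2 • C.sh (X 0) + (1 : F) ^ 2 • C.sh (X 1) + (t - 1) ^ 2 • C.sh (X 2) +
          (t * 1) • C.cr (X 0) (X 1) + (t * (t - 1)) • C.cr (X 0) (X 2) + (1 * (t - 1)) • C.cr (X 1) (X 2)) +
          ((-1 : F) ^ 2 • C.sh (X 0) + (t - 1) ^ 2 • C.sh (X 1) + t ^ 2 • C.sh (X 2) +
          (-1 * (t - 1)) • C.cr (X 0) (X 1) + (-1 * t) • C.cr (X 0) (X 2) + ((t - 1) * t) • C.cr (X 1) (X 2)) =
          ((t - 1) ^ 2 + t ^ 2 + 1) • (C.sh (X 0) + C.sh (X 1) + C.sh (X 2)) +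
          (1 - (t * t - t)) • C.cr (X 0) (X 1) + ((t * t - t) - 1) • C.cr (X 0) (X 2) +
          ((t * t - t) - 1) • C.cr (X 1) (X 2) := by module
        rw [e1, a1, a2, sub_self, zero_smul, zero_smul, zero_smul, add_zero, add_zero, add_zero]
      exact smul_right_injective V h4 k3
    obtain ⟨c, hcc⟩ := hfix (-(C.sh (X 0) + C.sh (X 1) + C.sh (X 2)) - q • C.u) (by
        rw [sub_eq_add_neg, C.tr_add, C.tr_neg, C.tr_neg, C.tr_add, C.tr_add, C.tr_smul, C.tr_u, r0, r1, r2]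
        ring)
      (by rw [map_sub, map_neg, map_add, map_add, map_smul, s00, s01, s02, hu0])
      (by rw [map_sub, map_neg, map_add, map_add, map_smul, s10, s11, s12, hu1])
      (by
        rw [map_sub, map_neg, map_add, map_add, map_smul, hsc, hsc, hsc, hc0, hc1, hc2, huc]
        congr 2
        abel)
      (by rw [map_sub, map_neg, map_smul, hz, huz])
    refine ⟨c + q, ?_⟩
    rw [add_smul, ← hcc, he', he', he']
    abel
  obtain ⟨κ, hκ⟩ := hsum
  -- products of the idempotents under the trace form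
  have Tee : ∀ i, C.T (e i) (e i) = q * q := by
    intro i
    have h := C.tr_sh (e i)
    rw [she i, tre i] at h
    have h0' : C.tr (0 : V) = 0 := by
      rw [← C.T_u, C.T_comm, ← zero_smul F (0 : V), C.T_smul, zero_mul]
    rw [h0', mul_zero] at h
    linear_combination h
  have ec0 : c3 (e 0) = e 1 := by rw [he', he', map_neg, hsc, hc0]
  have ec1 : c3 (e 1) = e 2 := by rw [he', he', map_neg, hsc, hc1]
  have ec2 : c3 (e 2) = e 0 := by rw [he', he', map_neg, hsc, hc2]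
  have E12 : C.T (e 1) (e 2) = C.T (e 0) (e 1) := by
    have h := hTc (e 0) (e 1)
    rwa [ec0, ec1] at h
  have E20 : C.T (e 2) (e 0) = C.T (e 0) (e 1) := by
    have h := hTc (e 1) (e 2)
    rwa [ec1, ec2, E12] at h
  have hκT : κ * q = q * q + 2 * C.T (e 0) (e 1) := by
    have h : C.T (e 0 + e 1 + e 2) (e 0) = κ * q := by rw [hκ, C.T_smul, C.T_u, tre]
    rw [C.T_add, C.T_add, Tee, C.T_comm (e 1), E20] at h
    rw [← h]
    ring
  have hκq : κ = q := by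
    by_cases h30 : (3 : F) = 0
    · have h := h3 h30
      have h6 : C.T (C.cr (C.sh (X 1 + t • X 2)) (X 0)) (X 0) = 0 := by
        rw [h, ← zero_smul F (0 : V), C.T_smul, zero_mul]
      have h7 : X 1 + t • X 2 = (0 : F) • X 0 + (1 : F) • X 1 + t • X 2 := by module
      rw [C.T_cr, C.cr_self, C.T_smul', h7, C.sh_three] at h6
      have h8 := (mul_eq_zero.1 h6).resolve_left h2
      have Y0e : C.T (C.cr (X 1) (X 2)) (C.sh (X 0)) = 0 := by
        apply self0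
        have hv : v1 (C.cr (X 1) (X 2)) = -C.cr (X 1) (X 2) := by
          have k := C.sh_add (X 1) (X 2)
          have k' : C.cr (X 1) (X 2) = C.sh (X 1 + X 2) - C.sh (X 1) - C.sh (X 2) := by rw [k]; abel
          have k'' := C.sh_add (X 1) (-X 2)
          rw [C.cr_neg', C.sh_neg] at k''
          rw [k', map_sub, map_sub, s11, s12, hs1, map_add, h11, h12, k'', k]
          abel
        rw [← C.T_neg, ← hv]
        nth_rw 1 [← hT1, s10]
      have f1 : C.T (C.sh (X 1)) (C.sh (X 0)) = C.T (e 0) (e 1) := by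
        rw [he', he', C.T_neg, C.T_neg', neg_neg, C.T_comm]
      have f2 : C.T (C.sh (X 2)) (C.sh (X 0)) = C.T (e 0) (e 1) := by
        rw [← E20, he', he', C.T_neg, C.T_neg', neg_neg]
      simp only [C.T_add, C.T_smul, f1, f2, Y0e] at h8
      have h9 : (1 + t * t) * C.T (e 0) (e 1) = 0 := by linear_combination h8
      have h10' : (1 + t * t) ≠ 0 := by
        intro h11'
        have h12' : t = -2 := by linear_combination h11' - ht
        rw [h12'] at ht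
        apply h5
        linear_combination ht
      have h11' := (mul_eq_zero.1 h9).resolve_left h10'
      rw [h11', mul_zero, add_zero] at hκT
      exact mul_right_cancel₀ hq0 hκT
    · have h : C.tr (e 0 + e 1 + e 2) = κ * 3 := by rw [hκ, C.tr_smul, C.tr_u]
      rw [C.tr_add, C.tr_add, tre, tre, tre] at h
      have h' : (3 : F) * (κ - q) = 0 := by linear_combination -h
      exact sub_eq_zero.1 ((mul_eq_zero.1 h').resolve_left h30)
  rw [hκq] at hκ
  -- products of the idempotents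
  have cre : ∀ i, C.cr (e i) (e i) = 0 := fun i => by rw [C.cr_self, she, smul_zero]
  have ue : ∀ i, C.cr (e 0 + e 1 + e 2) (e i) = q • (e 0 + e 1 + e 2) - q • e i := by
    intro i
    rw [hκ, C.cr_smul, C.cr_u, tre, smul_sub]
  have u0' := ue 0
  have u1' := ue 1
  have u2' := ue 2
  rw [C.cr_add, C.cr_add, cre] at u0' u1' u2'
  rw [C.cr_comm (e 1) (e 0)] at u0'
  rw [C.cr_comm (e 2) (e 1)] at u1'
  rw [C.cr_comm (e 0) (e 2)] at u2'
  have cancelV : ∀ a b : V, (2 : F) • a = (2 : F) • b → a = b := fun a b h => smul_right_injective V h2 h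
  have p01 : C.cr (e 0) (e 1) = q • e 2 := by
    apply cancelV
    have h : (2 : F) • C.cr (e 0) (e 1) = (0 + C.cr (e 0) (e 1) + C.cr (e 2) (e 0)) +
        (C.cr (e 0) (e 1) + 0 + C.cr (e 1) (e 2)) - (C.cr (e 2) (e 0) + C.cr (e 1) (e 2) + 0) := by module
    rw [h, u0', u1', u2']
    module
  have p12 : C.cr (e 1) (e 2) = q • e 0 := by
    apply cancelV
    have h : (2 : F) • C.cr (e 1) (e 2) = (C.cr (e 0) (e 1) + 0 + C.cr (e 1) (e 2)) +
        (C.cr (e 2) (e 0) + C.cr (e 1) (e 2) + 0) - (0 + C.cr (e 0) (e 1) + C.cr (e 2) (e 0)) := by module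
    rw [h, u0', u1', u2']
    module
  have p20 : C.cr (e 2) (e 0) = q • e 1 := by
    apply cancelV
    have h : (2 : F) • C.cr (e 2) (e 0) = (0 + C.cr (e 0) (e 1) + C.cr (e 2) (e 0)) +
        (C.cr (e 2) (e 0) + C.cr (e 1) (e 2) + 0) - (C.cr (e 0) (e 1) + 0 + C.cr (e 1) (e 2)) := by module
    rw [h, u0', u1', u2']
    module
  -- the vectors `Y`
  have shs : ∀ x y : V, C.T (C.sh x) y = 0 → C.T (C.sh y) x = 0 → C.sh (C.cr x y) = -C.cr (-C.sh x) (-C.sh y) := by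
    intro x y hx hy
    have h := C.sh_cr x y
    rw [C.T_comm] at hy
    rw [hx, hy, zero_smul, zero_smul, add_zero] at h
    rw [C.cr_neg, C.cr_neg', neg_neg]
    exact eq_neg_of_add_eq_zero_left h
  have y0 : C.sh (C.cr (X 1) (X 2)) = -q • e 0 := by
    rw [shs _ _ (T2 _ s01) (T1 _ s02), neg_smul, ← p12]
  have y1 : C.sh (C.cr (X 2) (X 0)) = -q • e 1 := by
    rw [shs _ _ (T0 _ s12) (T2 _ s00), neg_smul, ← p20]
  have y2 : C.sh (C.cr (X 0) (X 1)) = -q • e 2 := by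
    rw [shs _ _ (T1 _ s00) (T0 _ s11), neg_smul, ← p01]
  have ecr : ∀ x y : V, C.N x = 0 → C.T (C.sh x) y = 0 → C.cr (-C.sh x) (C.cr x y) = 0 := by
    intro x y hx hy
    rw [C.cr_neg, C.cr_sh_cr, hx, hy, zero_smul, zero_smul, add_zero, neg_zero]
  have a10 : C.cr (e 1) (C.cr (X 1) (X 2)) = 0 := ecr _ _ N1 (T2 _ s01)
  have a20 : C.cr (e 2) (C.cr (X 1) (X 2)) = 0 := by rw [C.cr_comm (X 1)]; exact ecr _ _ N2 (T1 _ s02)
  have a21 : C.cr (e 2) (C.cr (X 2) (X 0)) = 0 := ecr _ _ N2 (T0 _ s12)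
  have a01 : C.cr (e 0) (C.cr (X 2) (X 0)) = 0 := by rw [C.cr_comm (X 2)]; exact ecr _ _ N0 (T2 _ s00)
  have a02 : C.cr (e 0) (C.cr (X 0) (X 1)) = 0 := ecr _ _ N0 (T1 _ s00)
  have a12 : C.cr (e 1) (C.cr (X 0) (X 1)) = 0 := by rw [C.cr_comm (X 0)]; exact ecr _ _ N1 (T0 _ s11)
  have tY : ∀ x y : V, C.tr x = 0 → C.T x y = 0 → C.cr (e 0 + e 1 + e 2) (C.cr x y) = -q • C.cr x y := by
    intro x y hx hxy
    rw [hκ, C.cr_smul, C.cr_u, C.tr_cr, hx, hxy, zero_mul, sub_zero, zero_smul, zero_sub, smul_neg, neg_smul]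
  have b0 : C.cr (e 0) (C.cr (X 1) (X 2)) = -q • C.cr (X 1) (X 2) := by
    rw [← tY _ _ t1 T12, C.cr_add, C.cr_add, a10, a20, add_zero, add_zero]
  have b1 : C.cr (e 1) (C.cr (X 2) (X 0)) = -q • C.cr (X 2) (X 0) := by
    rw [← tY _ _ t2 (by rw [C.T_comm]; exact T02), C.cr_add, C.cr_add, a21, a01, add_zero, zero_add]
  have b2 : C.cr (e 2) (C.cr (X 0) (X 1)) = -q • C.cr (X 0) (X 1) := by
    rw [← tY _ _ t0 T01, C.cr_add, C.cr_add, a02, a12, add_zero, zero_add]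
  refine ⟨q, e, ![C.cr (X 1) (X 2), C.cr (X 2) (X 0), C.cr (X 0) (X 1)], hq0, ?_, hκ, she, tre, p01, p12, p20, ?_, ?_, ?_,
    he', rfl, rfl, rfl⟩
  · intro i h
    have h' := tre i
    rw [h, ← C.T_u, C.T_comm, ← zero_smul F (0 : V), C.T_smul, zero_mul] at h'
    exact hq0 h'.symm
  · intro i
    fin_cases i
    · exact y0
    · exact y1
    · exact y2
  · intro i
    fin_cases i
    · exact b0
    · exact b1
    · exact b2
  · intro i j hij
    fin_cases i <;> fin_cases j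
    · exact absurd rfl hij
    · exact a01
    · exact a02
    · exact a10
    · exact absurd rfl hij
    · exact a12
    · exact a20
    · exact a21
    · exact absurd rfl hij

end Cfsg.Agent.H55.F4
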